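import Groth.Agent.L19.FPExtend.Sheaf
import Groth.Agent.L17.QCohExtension

/-!
# Extension of modules of finite presentation from quasi-compact opens
-/

set_option autoImplicit false
set_option linter.style.haveILetI false
set_option backward.isDefEq.respectTransparency.types false
set_option backward.isDefEq.respectTransparency false

universe u

open CategoryTheory CategoryTheory.Limits AlgebraicGeometry TopologicalSpace Opposite

noncomputable section

namespace Groth.L19.FPExtend

open Groth.L22.Inter.FlatTwist (isFP_of_iso)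

variable {X : Scheme.{u}}

/-- Replace a module on an open subscheme by one mapping to it. -/
theorem exists_replace {Z : Scheme.{u}} (j : Z ⟶ X) [IsOpenImmersion j] [QuasiCompact j] [QuasiSeparated j]
    (H : X.Modules) [Coh.IsQCoh H] (P : Z.Modules) [Coh.IsQCoh P] (θ : P ⟶ H.restrict j) :
    ∃ (E : X.Modules) (i : E ⟶ H) (e : E.restrict j ≅ P), Coh.IsQCoh E ∧
      e.hom ≫ θ = (Scheme.Modules.restrictFunctor j).map i ∧
      ∀ V : X.Opens, (∀ O : Z.Opens, j ''ᵁ O ≤ V → Function.Bijective (θ.app O)) →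
        IsIso ((Scheme.Modules.restrictFunctor V.ι).map i) := by
  let R := Scheme.Modules.restrictFunctor j
  let P' := Scheme.Modules.pushforward j
  let adj := Scheme.Modules.restrictAdjunction j
  let η : H ⟶ P'.obj (H.restrict j) := adj.unit.app H
  let p : P'.obj P ⟶ P'.obj (H.restrict j) := P'.map θ
  haveI : Coh.IsQCoh (H.restrict j) := Scheme.Modules.isQuasicoherent_restrictFunctor _ H
  haveI : Coh.IsQCoh (P'.obj P) := Groth.L16.QcqsPush.isQCoh_push P j
  haveI : Coh.IsQCoh (P'.obj (H.restrict j)) := Groth.L16.QcqsPush.isQCoh_push (H.restrict j) j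
  let E := pullback η p
  haveI hE : Coh.IsQCoh E := Groth.L29.DC.isQCoh_of_iso'
    (((Abelian.PullbackToBiproductIsKernel.isLimitPullbackToBiproduct η p).conePointUniqueUpToIso
      (kernelIsKernel _)).symm) (Groth.L29.DC.isQCoh_kernel' _ (Groth.L17.QCohExtension.isQCoh_extension
      (ShortComplex.mk (biprod.inl : H ⟶ H ⊞ P'.obj P) biprod.snd biprod.inl_snd)
      (ShortComplex.Splitting.ofHasBinaryBiproduct H (P'.obj P)).shortExact inferInstance inferInstance) inferInstance)
  let i : E ⟶ H := pullback.fst η p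
  let s : E ⟶ P'.obj P := pullback.snd η p
  have sq : IsPullback i s η p := IsPullback.of_hasPullback η p
  haveI : IsIso (R.map η) := by
    have h := adj.left_triangle_components H
    haveI : IsIso (adj.counit.app (R.obj H)) := inferInstance
    exact IsIso.of_isIso_fac_right h
  haveI : PreservesLimitsOfShape WalkingCospan R := inferInstance
  haveI : IsIso (R.map s) := (sq.map R).isIso_snd_of_isIso
  haveI : IsIso (adj.counit.app P) := inferInstance
  refine ⟨E, i, asIso (R.map s) ≪≫ asIso (adj.counit.app P), hE, ?_, fun V hV => ?_⟩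
  · have h1 : R.map i ≫ R.map η = R.map s ≫ R.map p := by rw [← R.map_comp, sq.w, R.map_comp]
    have h2 : R.map η ≫ adj.counit.app (H.restrict j) = 𝟙 _ := adj.left_triangle_components H
    have h3 : R.map p ≫ adj.counit.app (H.restrict j) = adj.counit.app P ≫ θ := adj.counit.naturality θ
    show (R.map s ≫ adj.counit.app P) ≫ θ = R.map i
    rw [Category.assoc, ← h3, ← Category.assoc, ← h1, Category.assoc, h2]
    exact Category.comp_id _
  · let RV := Scheme.Modules.restrictFunctor V.ι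
    haveI : IsIso (RV.map p) := Groth.L17.Approx.isIso_restrict_of_bijective p V fun O hO => by
      refine hV (j ⁻¹ᵁ O) ?_
      rintro _ ⟨x, hx, rfl⟩
      exact hO hx
    haveI : PreservesLimitsOfShape WalkingCospan RV := inferInstance
    exact (sq.map RV).isIso_fst_of_isIso

/-- Finite presentation is local. -/
theorem isFP_of_forall_exists (M : X.Modules) [Coh.IsQCoh M]
    (h : ∀ x : X, ∃ (Z : Scheme.{u}) (j : Z ⟶ X) (_ : IsOpenImmersion j),
      x ∈ j.opensRange ∧ CohB1.IsFP (M.restrict j)) : CohB1.IsFP M := by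
  refine Groth.L19.isFP_of_tilde_charts M fun x => ?_
  obtain ⟨Z, j, hj, ⟨z, rfl⟩, hM⟩ := h x
  obtain ⟨_, ⟨V, hV, rfl⟩, hzV, -⟩ := Z.isBasis_affineOpens.exists_subset_of_mem_open (Set.mem_univ z) isOpen_univ
  obtain ⟨N, ⟨e⟩⟩ := Groth.L00.Local.exists_tilde_iso_restrict (hV.fromSpec ≫ j) M
  refine ⟨_, hV.fromSpec ≫ j, inferInstance, N, ?_, ?_, ⟨e⟩⟩
  · obtain ⟨q, hq⟩ : z ∈ Set.range hV.fromSpec := hV.range_fromSpec ▸ hzV
    exact ⟨q, by rw [Scheme.Hom.comp_apply, hq]⟩
  · haveI : Coh.IsQCoh (M.restrict j) := Scheme.Modules.isQuasicoherent_restrictFunctor j M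
    exact (Groth.L18.LFP.tilde_isFP_iff N).1 (isFP_of_iso
      (((Scheme.Modules.restrictFunctorComp hV.fromSpec j).app M).symm ≪≫ e)
      (Groth.L17.Approx.isFP_restrict hV.fromSpec (M.restrict j) hM))

/-- Finite presentation on an open passes to smaller charts. -/
theorem isFP_restrict_of_range (E : X.Modules) [Coh.IsQCoh E] {U : X.Opens} (hE : CohB1.IsFP (E.restrict U.ι))
    {Z : Scheme.{u}} (j : Z ⟶ X) [IsOpenImmersion j] (h : Set.range j ⊆ U) : CohB1.IsFP (E.restrict j) := by
  let l : Z ⟶ U.toScheme := IsOpenImmersion.lift U.ι j (by rwa [Scheme.Opens.range_ι])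
  have hl : l ≫ U.ι = j := IsOpenImmersion.lift_fac _ _ _
  haveI : IsOpenImmersion (l ≫ U.ι) := hl ▸ inferInstance
  haveI : IsOpenImmersion l := IsOpenImmersion.of_comp l U.ι
  haveI : Coh.IsQCoh (E.restrict U.ι) := Scheme.Modules.isQuasicoherent_restrictFunctor _ E
  exact isFP_of_iso (M := (E.restrict U.ι).restrict l) (N := E.restrict j)
    (((Scheme.Modules.restrictFunctorComp l U.ι).symm ≪≫
    Scheme.Modules.restrictFunctorCongr hl).app E) (Groth.L17.Approx.isFP_restrict l _ hE)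

/-- One step of the extension. -/
theorem exists_step [QuasiSeparatedSpace X] (E : X.Modules) [Coh.IsQCoh E] (U : X.Opens)
    (hU : IsCompact (U : Set X)) (hE : CohB1.IsFP (E.restrict U.ι)) {W : X.Opens} (hW : IsAffineOpen W) :
    ∃ (E' : X.Modules) (i : E' ⟶ E), Coh.IsQCoh E' ∧ IsIso ((Scheme.Modules.restrictFunctor U.ι).map i) ∧
      CohB1.IsFP (E'.restrict (U ⊔ W).ι) := by
  let j := hW.fromSpec
  haveI : QuasiCompact j := by
    have : j = hW.isoSpec.inv ≫ W.ι := rfl
    rw [this]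
    haveI := Groth.L17.Approx.quasiCompact_ι W hW.isCompact
    infer_instance
  let O : (Spec Γ(X, W)).Opens := j ⁻¹ᵁ U
  haveI : Coh.IsQCoh (E.restrict j) := Scheme.Modules.isQuasicoherent_restrictFunctor _ E
  have hO : IsCompact (O : Set (Spec Γ(X, W))) := QuasiCompact.isCompact_preimage (f := j) _ U.2 hU
  have hFP : CohB1.IsFP ((E.restrict j).restrict O.ι) :=
    isFP_of_iso ((Scheme.Modules.restrictFunctorComp O.ι j).app E)
      (isFP_restrict_of_range E hE (O.ι ≫ j) (by
        rintro _ ⟨x, rfl⟩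
        exact x.2))
  obtain ⟨P, hPq, θ, hP, hθ⟩ := exists_fp_approximation_spec (E.restrict j) O hO hFP
  haveI := hPq
  obtain ⟨E', i, e, hE', he, hV⟩ := exists_replace j E P θ
  haveI := hE'
  have hiso := hV U fun O' hO' => hθ O' fun x hx => hO' ⟨x, hx, rfl⟩
  refine ⟨E', i, hE', hiso, ?_⟩
  haveI : Coh.IsQCoh (E'.restrict (U ⊔ W).ι) := Scheme.Modules.isQuasicoherent_restrictFunctor _ E'
  haveI := hiso
  have hU' : CohB1.IsFP (E'.restrict U.ι) :=
    isFP_of_iso (asIso ((Scheme.Modules.restrictFunctor U.ι).map i)).symm hE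
  refine isFP_of_forall_exists _ fun x => ?_
  rcases (show x.1 ∈ U ∨ x.1 ∈ W from x.2) with hx | hx
  · refine ⟨_, X.homOfLE (le_sup_left : U ≤ U ⊔ W), inferInstance, ⟨⟨x.1, hx⟩, ?_⟩, ?_⟩
    · exact (U ⊔ W).ι.isOpenEmbedding.injective (by
        rw [← Scheme.Hom.comp_apply, Scheme.homOfLE_ι]; rfl)
    · exact isFP_of_iso (((Scheme.Modules.restrictFunctorComp (X.homOfLE (le_sup_left : U ≤ U ⊔ W)) (U ⊔ W).ι).app E'))
        (isFP_restrict_of_range E' hU' _ (by rw [Scheme.homOfLE_ι, Scheme.Opens.range_ι]))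
  · let l : Spec Γ(X, W) ⟶ (U ⊔ W).toScheme := IsOpenImmersion.lift (U ⊔ W).ι j (by
      rw [Scheme.Opens.range_ι, hW.range_fromSpec]
      exact fun y hy => Or.inr hy)
    have hl : l ≫ (U ⊔ W).ι = j := IsOpenImmersion.lift_fac _ _ _
    haveI : IsOpenImmersion (l ≫ (U ⊔ W).ι) := hl ▸ inferInstance
    haveI : IsOpenImmersion l := IsOpenImmersion.of_comp l (U ⊔ W).ι
    refine ⟨_, l, inferInstance, ?_, ?_⟩
    · obtain ⟨q, hq⟩ : x.1 ∈ Set.range j := hW.range_fromSpec ▸ hx
      exact ⟨q, (U ⊔ W).ι.isOpenEmbedding.injective (by rw [← Scheme.Hom.comp_apply, hl]; exact hq)⟩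
    · exact isFP_of_iso (((Scheme.Modules.restrictFunctorComp l (U ⊔ W).ι).symm ≪≫
        Scheme.Modules.restrictFunctorCongr hl).app E' ≪≫ e).symm hP

/-- Iterating the step over finitely many affine opens. -/
theorem exists_cover_step [QuasiSeparatedSpace X] (s : Finset X.affineOpens) :
    ∀ (U : X.Opens), IsCompact (U : Set X) → ∀ (E : X.Modules) [Coh.IsQCoh E], CohB1.IsFP (E.restrict U.ι) →
    ∃ (E' : X.Modules) (i : E' ⟶ E), Coh.IsQCoh E' ∧ IsIso ((Scheme.Modules.restrictFunctor U.ι).map i) ∧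
      CohB1.IsFP (E'.restrict (U ⊔ s.sup fun W => W.1).ι) := by
  classical
  induction s using Finset.induction with
  | empty =>
    intro U hU E _ hE
    refine ⟨E, 𝟙 E, inferInstance, by rw [CategoryTheory.Functor.map_id]; infer_instance, ?_⟩
    rwa [Finset.sup_empty, sup_bot_eq]
  | insert W s hW ih =>
    intro U hU E _ hE
    obtain ⟨E₁, i₁, hE₁, hiso₁, hfp₁⟩ := exists_step E U hU hE W.2
    haveI := hE₁
    obtain ⟨E', i, hE', hiso, hfp⟩ := ih (U ⊔ W.1) (by rw [Opens.coe_sup]; exact hU.union W.2.isCompact) E₁ hfp₁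
    refine ⟨E', i ≫ i₁, hE', ?_, ?_⟩
    · haveI : IsIso ((Scheme.Modules.restrictFunctor U.ι).map i) :=
        Groth.L17.Approx.isIso_restrict_of_bijective i _ fun O hO =>
          Groth.L17.Approx.bijective_app_of_isIso_restrict (V := U ⊔ W.1) i (hO.trans le_sup_left)
      rw [Functor.map_comp]
      infer_instance
    · rwa [Finset.sup_insert, ← sup_assoc]

/-- A module of finite presentation on a quasi-compact open, mapping to a quasi-coherent module, extends. -/
theorem exists_fp_extension [CompactSpace X] [QuasiSeparatedSpace X] (F : X.Modules) [Coh.IsQCoh F]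
    (U : X.Opens) (hU : IsCompact (U : Set X)) (G : U.toScheme.Modules) (hG : CohB1.IsFP G)
    (φ : G ⟶ F.restrict U.ι) :
    ∃ (G' : X.Modules) (φ' : G' ⟶ F) (e : G'.restrict U.ι ≅ G), CohB1.IsFP G' ∧
      e.hom ≫ φ = (Scheme.Modules.restrictFunctor U.ι).map φ' := by
  haveI := Groth.L17.Approx.quasiCompact_ι U hU
  haveI : Coh.IsQCoh G := { nonempty_quasicoherentData := ⟨hG.exists_quasicoherentData.choose⟩ }
  obtain ⟨E₀, i₀, e₀, hE₀, he₀, -⟩ := exists_replace U.ι F G φ
  haveI := hE₀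
  obtain ⟨s, hs⟩ := isCompact_univ.elim_finite_subcover (fun V : X.affineOpens => (V.1 : Set X))
    (fun V => V.1.2) (fun x _ => by
      obtain ⟨_, ⟨V, hV, rfl⟩, hxV, -⟩ :=
        X.isBasis_affineOpens.exists_subset_of_mem_open (Set.mem_univ x) isOpen_univ
      exact Set.mem_iUnion.2 ⟨⟨V, hV⟩, hxV⟩)
  obtain ⟨E, i, hE, hiso, hfp⟩ := exists_cover_step s U hU E₀ (isFP_of_iso e₀.symm hG)
  haveI := hE
  haveI := hiso
  refine ⟨E, i ≫ i₀, asIso ((Scheme.Modules.restrictFunctor U.ι).map i) ≪≫ e₀, ?_, ?_⟩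
  · refine isFP_of_forall_exists _ fun x => ⟨_, (U ⊔ s.sup fun W => W.1).ι, inferInstance, ?_, hfp⟩
    rw [Scheme.Opens.opensRange_ι]
    obtain ⟨W, hW, hxW⟩ := Set.mem_iUnion₂.1 (hs (Set.mem_univ x))
    exact Or.inr (Finset.le_sup (f := fun W : X.affineOpens => W.1) hW hxW)
  · rw [Iso.trans_hom, asIso_hom, Category.assoc, he₀, ← Functor.map_comp]

end Groth.L19.FPExtend
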