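import Groth.Agent.L05.Prufer.Sheaf
import Groth.Agent.L19.FPExtend.Main
import Mathlib.Algebra.Category.ModuleCat.Biproducts
import Mathlib.LinearAlgebra.Pi

/-!
# Cokernels and finite coproducts of modules of finite presentation
-/

set_option autoImplicit false
set_option linter.style.haveILetI false
set_option backward.isDefEq.respectTransparency.types false
set_option backward.isDefEq.respectTransparency false

universe u

open CategoryTheory CategoryTheory.Limits AlgebraicGeometry TopologicalSpace Opposite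

noncomputable section

namespace Groth.L19.FPExtend

theorem finitePresentation_pi {R : Type u} [CommRing R] {ι : Type u} [Finite ι] :
    ∀ (N : ι → Type u) [∀ i, AddCommGroup (N i)] [∀ i, Module R (N i)] [∀ i, Module.FinitePresentation R (N i)],
      Module.FinitePresentation R (∀ i, N i) := by
  induction ι using Finite.induction_empty_option with
  | of_equiv e ih =>
    intro N _ _ _
    haveI := ih (fun i => N (e i))
    exact Module.FinitePresentation.of_equiv (LinearEquiv.piCongrLeft R N e)
  | h_empty =>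
    intro N _ _ _
    exact Module.FinitePresentation.of_equiv (R := R) (M := Fin 0 → R) (LinearEquiv.ofSubsingleton _ _)
  | h_option ih =>
    intro N _ _ _
    haveI := ih (fun i => N (some i))
    exact Module.FinitePresentation.of_equiv (LinearEquiv.piOptionEquivProd R).symm

variable {X : Scheme.{u}}

/-- Cokernels of maps of modules of finite presentation. -/
theorem isFP_cokernel {A B : X.Modules} (hA : CohB1.IsFP A) (hB : CohB1.IsFP B) (φ : A ⟶ B) :
    CohB1.IsFP (cokernel φ) := by
  haveI := Groth.L05.Prufer.isQCoh_of_isFP hA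
  haveI := Groth.L05.Prufer.isQCoh_of_isFP hB
  refine Groth.L19.isFP_of_tilde_charts _ fun x => ?_
  obtain ⟨U, hU, hxU, -⟩ := exists_isAffineOpen_mem_and_subset (x := x) (U := ⊤) trivial
  let j := hU.fromSpec
  obtain ⟨NA, hNA, ⟨eA⟩⟩ := Groth.L05.Prufer.exists_tilde_chart A hU (Groth.L20.ModStalk.finitePresentation_sections A hA hU)
  obtain ⟨NB, hNB, ⟨eB⟩⟩ := Groth.L05.Prufer.exists_tilde_chart B hU (Groth.L20.ModStalk.finitePresentation_sections B hB hU)
  obtain ⟨l, hl⟩ := (tilde.functor Γ(X, U)).map_surjective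
    (eA.inv ≫ (Scheme.Modules.restrictFunctor j).map φ ≫ eB.hom)
  haveI : PreservesColimitsOfSize.{0, 0} (Scheme.Modules.restrictFunctor j) :=
    (Scheme.Modules.restrictAdjunction j).leftAdjoint_preservesColimits
  refine ⟨_, j, inferInstance, cokernel l, hU.opensRange_fromSpec.ge hxU, ?_, ⟨?_⟩⟩
  · haveI : Module.FinitePresentation Γ(X, U) (NB ⧸ LinearMap.range l.hom) :=
      Module.finitePresentation_of_surjective (LinearMap.range l.hom).mkQ (Submodule.mkQ_surjective _)
        (by rw [Submodule.ker_mkQ]; exact Module.Finite.iff_fg.mp (Module.Finite.range l.hom))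
    exact Module.FinitePresentation.of_equiv (ModuleCat.cokernelIsoRangeQuotient l).toLinearEquiv.symm
  · exact PreservesCokernel.iso (Scheme.Modules.restrictFunctor j) φ ≪≫
      cokernel.mapIso _ ((tilde.functor _).map l) eA eB (by rw [hl]; simp) ≪≫
      (PreservesCokernel.iso (tilde.functor _) l).symm

/-- Finite coproducts of modules of finite presentation. -/
theorem isFP_sigma {ι : Type u} [Finite ι] (P : ι → X.Modules) (hP : ∀ i, CohB1.IsFP (P i)) :
    CohB1.IsFP (∐ P) := by
  refine Groth.L19.isFP_of_tilde_charts _ fun x => ?_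
  obtain ⟨U, hU, hxU, -⟩ := exists_isAffineOpen_mem_and_subset (x := x) (U := ⊤) trivial
  let j := hU.fromSpec
  have h := fun i =>
    haveI := Groth.L05.Prufer.isQCoh_of_isFP (hP i)
    Groth.L05.Prufer.exists_tilde_chart (P i) hU (Groth.L20.ModStalk.finitePresentation_sections (P i) (hP i) hU)
  choose N hN e using h
  haveI : PreservesColimitsOfSize.{u, u} (Scheme.Modules.restrictFunctor j) :=
    (Scheme.Modules.restrictAdjunction j).leftAdjoint_preservesColimits
  haveI : HasBiproduct N := inferInstance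
  refine ⟨_, j, inferInstance, ∐ N, hU.opensRange_fromSpec.ge hxU, ?_, ⟨?_⟩⟩
  · haveI := hN
    haveI := finitePresentation_pi (R := Γ(X, U)) (fun i => N i)
    exact Module.FinitePresentation.of_equiv
      ((biproduct.isoCoproduct N).symm ≪≫ biproduct.isoProduct N ≪≫ ModuleCat.piIsoPi N).toLinearEquiv.symm
  · exact PreservesCoproduct.iso (Scheme.Modules.restrictFunctor j) P ≪≫
      Sigma.mapIso (fun i => (e i).some) ≪≫ (PreservesCoproduct.iso (tilde.functor _) N).symm

/-- The structure module is of finite presentation. -/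
theorem isFP_structureModule (Y : Scheme.{u}) : CohB1.IsFP (Coh.structureModule Y) := by
  refine Groth.L19.isFP_of_tilde_charts _ fun y => ?_
  obtain ⟨U, hU, hyU, -⟩ := exists_isAffineOpen_mem_and_subset (x := y) (U := ⊤) trivial
  exact ⟨_, hU.fromSpec, inferInstance, ModuleCat.of Γ(Y, U) Γ(Y, U), hU.opensRange_fromSpec.ge hyU,
    inferInstanceAs (Module.FinitePresentation Γ(Y, U) Γ(Y, U)),
    ⟨Scheme.Modules.restrictUnitIso hU.fromSpec ≪≫ tildeSelf.symm⟩⟩

/-- Every section over a quasi-compact open comes from a module of finite presentation. -/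
theorem exists_fp_hit [CompactSpace X] [QuasiSeparatedSpace X] (F : X.Modules) [Coh.IsQCoh F] (V : X.Opens)
    (hV : IsCompact (V : Set X)) (s : Γ(F, V)) :
    ∃ (P : X.Modules) (f : P ⟶ F), CohB1.IsFP P ∧ s ∈ Set.range (f.app V) := by
  obtain ⟨P, f, e, hP, he⟩ := exists_fp_extension F V hV (Coh.structureModule V.toScheme) (isFP_structureModule _)
    (Groth.L16.homOfSection (F.restrict V.ι) (Groth.L18.Frame.rs F V.ι_image_top.le s))
  refine ⟨P, f, hP, ?_⟩
  let o : Γ(P, V.ι ''ᵁ (⊤ : V.toScheme.Opens)) := e.inv.app ⊤ (1 : Γ(V.toScheme, ⊤))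
  refine ⟨Groth.L18.Frame.rs P V.ι_image_top.ge o, ?_⟩
  rw [Groth.L16.EpiFrames.app_rs]
  have h1 : f.app (V.ι ''ᵁ (⊤ : V.toScheme.Opens)) o = Groth.L18.Frame.rs F V.ι_image_top.le s := by
    have h2 := congr(($he).app ⊤ (e.inv.app ⊤ (1 : Γ(V.toScheme, ⊤))))
    refine h2.symm.trans ?_
    have h3 : e.hom.app ⊤ (e.inv.app ⊤ (1 : Γ(V.toScheme, ⊤))) = (1 : Γ(V.toScheme, ⊤)) :=
      congr(($(e.inv_hom_id)).app ⊤ (1 : Γ(V.toScheme, ⊤)))
    refine (congrArg ((Groth.L16.homOfSection (F.restrict V.ι) (Groth.L18.Frame.rs F V.ι_image_top.le s)).app ⊤) h3).trans ?_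
    rw [Groth.L16.homOfSection_app, one_smul]
    exact Groth.L18.Frame.rs_self (F.restrict V.ι) _ _
  rw [h1, Groth.L18.Frame.rs_rs]
  exact Groth.L18.Frame.rs_self F _ _

end Groth.L19.FPExtend
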