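import Groth.Agent.L19.FPExtend.Ops
import Groth.Agent.L21.Mod.Stalks
import Mathlib.CategoryTheory.Limits.ConcreteCategory.Basic
import Mathlib.Algebra.Category.Grp.FilteredColimits

/-!
# Quasi-coherent modules are filtered colimits of modules of finite presentation
-/

set_option autoImplicit false
set_option linter.style.haveILetI false
set_option backward.isDefEq.respectTransparency.types false
set_option backward.isDefEq.respectTransparency false

universe u

open CategoryTheory CategoryTheory.Limits AlgebraicGeometry TopologicalSpace Opposite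

noncomputable section

namespace Groth.L19.FPExtend

variable {X : Scheme.{u}}

/-- Sections killed by a map lift to the kernel. -/
theorem exists_kernel_section {N Q : X.Modules} (ψ : N ⟶ Q) {U : X.Opens} (x : Γ(N, U)) (hx : ψ.app U x = 0) :
    ∃ k : Γ(kernel ψ, U), (kernel.ι ψ).app U k = x := by
  let G : SheafOfModules.{u} X.ringCatSheaf ⥤ _ := SheafOfModules.evaluation.{u} X.ringCatSheaf (op U)
  let f := G.map (show (N : SheafOfModules.{u} X.ringCatSheaf) ⟶ Q from ψ)
  let l : ModuleCat.of _ (X.ringCatSheaf.obj.obj (op U)) ⟶ G.obj N :=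
    ModuleCat.ofHom (LinearMap.toSpanSingleton _ _ (show G.obj N from x))
  have hl : l ≫ f = 0 := by
    refine ModuleCat.hom_ext (LinearMap.ext_ring ?_)
    show f ((1 : X.ringCatSheaf.obj.obj (op U)) • (show G.obj N from x)) = 0
    rw [one_smul]
    exact hx
  let k := (kernel.lift f l hl ≫ (PreservesKernel.iso G ψ).inv) (1 : X.ringCatSheaf.obj.obj (op U))
  refine ⟨k, ?_⟩
  have e : (kernel.lift f l hl ≫ (PreservesKernel.iso G ψ).inv) ≫ G.map (kernel.ι ψ) = l := by
    rw [Category.assoc, PreservesKernel.iso_inv_ι, kernel.lift_ι]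
  refine (ConcreteCategory.congr_hom e _).trans ?_
  show (1 : X.ringCatSheaf.obj.obj (op U)) • (show G.obj N from x) = _
  exact one_smul _ _

/-- A quasi-coherent module is a filtered colimit of modules of finite presentation. -/
theorem exists_isColimit_fp [CompactSpace X] [QuasiSeparatedSpace X] (F : X.Modules) [Coh.IsQCoh F] :
    ∃ (I : Type u) (_ : SmallCategory I) (_ : IsFiltered I) (D : I ⥤ X.Modules) (c : Cocone D)
      (_ : IsColimit c), (∀ i, CohB1.IsFP (D.obj i)) ∧ c.pt = F := by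
  classical
  let T : Type u := Σ V : X.affineOpens, Γ(F, V.1)
  choose P f hP hf using fun t : T => exists_fp_hit F t.1.1 t.1.2.isCompact t.2
  let PA : Finset T → X.Modules := fun A => ∐ fun t : {t // t ∈ A} => P t.1
  let pA : ∀ A : Finset T, PA A ⟶ F := fun A => Sigma.desc fun t => f t.1
  let inc : ∀ {A A' : Finset T}, A ⊆ A' → (PA A ⟶ PA A') :=
    fun h => Sigma.desc fun t => Sigma.ι (fun t : {t // t ∈ _} => P t.1) ⟨t.1, h t.2⟩
  have inc_p : ∀ {A A' : Finset T} (h : A ⊆ A'), inc h ≫ pA A' = pA A := fun h => by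
    refine Sigma.hom_ext _ _ fun t => ?_
    simp [inc, pA]
  have inc_comp : ∀ {A A' A'' : Finset T} (h : A ⊆ A') (h' : A' ⊆ A''), inc h ≫ inc h' = inc (h.trans h') :=
    fun h h' => by
      refine Sigma.hom_ext _ _ fun t => ?_
      simp [inc]
  have inc_refl : ∀ A : Finset T, inc (Finset.Subset.refl A) = 𝟙 (PA A) := fun A => by
    refine Sigma.hom_ext _ _ fun t => ?_
    simp [inc]
    exact (Category.comp_id _).symm
  have hPA : ∀ A, CohB1.IsFP (PA A) := fun A => isFP_sigma _ fun t => hP t.1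
  haveI : ∀ A, Coh.IsQCoh (PA A) := fun A => Groth.L05.Prufer.isQCoh_of_isFP (hPA A)
  let Rel : Type u := Σ A : Finset T, Σ V : X.affineOpens, {r : Γ(PA A, V.1) // (pA A).app V.1 r = 0}
  choose k hk using fun ρ : Rel => exists_kernel_section (pA ρ.1) ρ.2.2.1 ρ.2.2.2
  choose Q q hQ hq using fun ρ : Rel =>
    haveI : Coh.IsQCoh (kernel (pA ρ.1)) := Groth.L29.DC.isQCoh_kernel' _ inferInstance inferInstance
    exists_fp_hit (kernel (pA ρ.1)) ρ.2.1.1 ρ.2.1.2.isCompact (k ρ)
  let K : Finset T × Finset Rel → X.Modules := fun i =>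
    ∐ fun ρ : {ρ : Rel // ρ ∈ i.2 ∧ ρ.1 ⊆ i.1} => Q ρ.1
  let κ : ∀ i, K i ⟶ PA i.1 := fun i => Sigma.desc fun ρ => q ρ.1 ≫ kernel.ι _ ≫ inc ρ.2.2
  let D : Finset T × Finset Rel → X.Modules := fun i => cokernel (κ i)
  have hD : ∀ i, CohB1.IsFP (D i) := fun i => by
    haveI : Finite {ρ : Rel // ρ ∈ i.2 ∧ ρ.1 ⊆ i.1} :=
      Finite.of_injective (fun ρ => (⟨ρ.1, ρ.2.1⟩ : {ρ : Rel // ρ ∈ i.2})) fun a b h => by
        have := congrArg (fun z : {ρ : Rel // ρ ∈ i.2} => z.1) h
        exact Subtype.ext this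
    exact isFP_cokernel (isFP_sigma (fun ρ : {ρ : Rel // ρ ∈ i.2 ∧ ρ.1 ⊆ i.1} => Q ρ.1) fun ρ => hQ ρ.1) (hPA i.1) (κ i)
  let mp : ∀ {i j : Finset T × Finset Rel}, i ≤ j → (D i ⟶ D j) := fun {i j} h =>
    cokernel.desc (κ i) (inc h.1 ≫ cokernel.π (κ j)) (by
      refine Sigma.hom_ext _ _ fun ρ => ?_
      have hc := Sigma.ι (fun ρ : {ρ : Rel // ρ ∈ j.2 ∧ ρ.1 ⊆ j.1} => Q ρ.1)
        ⟨ρ.1, h.2 ρ.2.1, ρ.2.2.trans h.1⟩ ≫= cokernel.condition (κ j)
      simp only [κ, Sigma.ι_desc_assoc, comp_zero, Category.assoc] at hc ⊢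
      rw [reassoc_of% (inc_comp ρ.2.2 h.1)]
      exact hc)
  let 𝒟 : Finset T × Finset Rel ⥤ X.Modules :=
    { obj := D
      map := fun {i j} h => mp ⟨leOfHom h.1, leOfHom h.2⟩
      map_id := fun i => by
        refine coequalizer.hom_ext ?_
        simp [mp, inc_refl, D]
      map_comp := fun {i j l} h h' => by
        refine coequalizer.hom_ext ?_
        simp [mp, D]
        rw [reassoc_of% (inc_comp _ _)] }
  let u₀ : ∀ i, D i ⟶ F := fun i => cokernel.desc (κ i) (pA i.1) (by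
    refine Sigma.hom_ext _ _ fun ρ => ?_
    simp [κ, inc_p, kernel.condition])
  let c : Cocone 𝒟 :=
    { pt := F
      ι :=
        { app := u₀
          naturality := fun i j h => by
            refine coequalizer.hom_ext ?_
            simp [𝒟, mp, u₀, D, inc_p] } }
  refine ⟨Finset T × Finset Rel, inferInstance, inferInstance, 𝒟, c, ?_, hD, rfl⟩
  haveI : IsIso ((colimit.isColimit 𝒟).desc c) := by
    rw [Groth.L21.Mod.isIso_iff_stalk_bijective]
    intro x
    let S := Groth.L21.Mod.stalkF X x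
    haveI : PreservesColimitsOfSize.{u, u} S := Groth.L00.Stk.preservesColimits_stalkF x
    let hS := isColimitOfPreserves S (colimit.isColimit 𝒟)
    have hfac : ∀ (i : Finset T × Finset Rel) (z : S.obj (D i)),
        S.map ((colimit.isColimit 𝒟).desc c) (S.map (colimit.ι 𝒟 i) z) = S.map (u₀ i) z := fun i z => by
      show (S.map (colimit.ι 𝒟 i) ≫ S.map ((colimit.isColimit 𝒟).desc c)) z = _
      rw [← S.map_comp]
      exact congrArg (fun m : 𝒟.obj i ⟶ F => S.map m z) ((colimit.isColimit 𝒟).fac c i)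
    refine ⟨(injective_iff_map_eq_zero _).2 fun z hz => ?_, fun y => ?_⟩
    · obtain ⟨i, z, rfl⟩ := Concrete.isColimit_exists_rep (𝒟 ⋙ S) hS z
      change S.map ((colimit.isColimit 𝒟).desc c) (S.map (colimit.ι 𝒟 i) z) = 0 at hz
      rw [hfac] at hz
      obtain ⟨w, rfl⟩ := (Groth.L21.Mod.epi_iff_stalk_surjective (cokernel.π (κ i))).1 inferInstance x z
      rw [← ConcreteCategory.comp_apply, ← S.map_comp, cokernel.π_desc] at hz
      obtain ⟨U, hxU, r, rfl⟩ := TopCat.Presheaf.exists_germ_eq (PA i.1).presheaf w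
      rw [Groth.L21.Mod.stalkF_map_germ] at hz
      obtain ⟨W, hxW, iWU, iWU', hW⟩ := TopCat.Presheaf.germ_eq F.presheaf x hxU hxU
        ((pA i.1).app U r) 0 (hz.trans (map_zero _).symm)
      obtain ⟨B, hB, hxB, hBW⟩ := exists_isAffineOpen_mem_and_subset (x := x) (U := W) hxW
      have hBU : B ≤ U := SetLike.coe_subset_coe.1 (hBW.trans (SetLike.coe_subset_coe.2 iWU.le))
      let rB : Γ(PA i.1, B) := Groth.L18.Frame.rs (PA i.1) hBU r
      have hrB : (pA i.1).app B rB = 0 := by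
        rw [Groth.L16.EpiFrames.app_rs,
          ← Groth.L18.Frame.rs_rs F iWU.le (SetLike.coe_subset_coe.1 hBW) ((pA i.1).app U r)]
        have hW' : Groth.L18.Frame.rs F iWU.le ((pA i.1).app U r) = 0 := hW.trans (map_zero _)
        rw [hW']
        exact map_zero _
      let ρ : Rel := ⟨i.1, ⟨B, hB⟩, rB, hrB⟩
      let j : Finset T × Finset Rel := (i.1, insert ρ i.2)
      have hij : i ≤ j := ⟨subset_rfl, Finset.subset_insert _ _⟩
      have hz0 : S.map (mp hij) (S.map (cokernel.π (κ i)) ((PA i.1).presheaf.germ U x hxU r)) = 0 := by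
        rw [← ConcreteCategory.comp_apply, ← S.map_comp, cokernel.π_desc, inc_refl, Category.id_comp]
        obtain ⟨o, ho⟩ := hq ρ
        have hker := congr(($(Sigma.ι (fun ρ : {ρ : Rel // ρ ∈ j.2 ∧ ρ.1 ⊆ j.1} => Q ρ.1)
          ⟨ρ, Finset.mem_insert_self _ _, subset_rfl⟩ ≫= cokernel.condition (κ j))).app B o)
        simp only [κ, Sigma.ι_desc_assoc, comp_zero, inc_refl, Category.comp_id, Category.assoc] at hker
        have h0 : (cokernel.π (κ j)).app B rB = 0 := by
          refine (congrArg ((cokernel.π (κ j)).app B) ((congrArg ((kernel.ι (pA ρ.1)).app B) ho).trans (hk ρ))).symm.trans ?_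
          exact hker
        have hgerm : (PA i.1).presheaf.germ U x hxU r = (PA i.1).presheaf.germ B x hxB rB :=
          (Groth.L20.ModStalk.germ_rs _ hBU hxB r).symm
        rw [hgerm]
        exact (Groth.L21.Mod.stalkF_map_germ (cokernel.π (κ j)) B x hxB rB).trans (by rw [h0]; exact map_zero _)
      have hw : colimit.ι 𝒟 i = 𝒟.map (Prod.mkHom (homOfLE hij.1) (homOfLE hij.2)) ≫ colimit.ι 𝒟 j := (colimit.w 𝒟 (Prod.mkHom (homOfLE hij.1) (homOfLE hij.2))).symm
      show S.map (colimit.ι 𝒟 i) (S.map (cokernel.π (κ i)) ((PA i.1).presheaf.germ U x hxU r)) = 0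
      rw [hw, S.map_comp, ConcreteCategory.comp_apply]
      exact (congrArg (S.map (colimit.ι 𝒟 j)) hz0).trans (map_zero _)
    · obtain ⟨U, hxU, s, rfl⟩ := TopCat.Presheaf.exists_germ_eq F.presheaf y
      obtain ⟨B, hB, hxB, hBU⟩ := exists_isAffineOpen_mem_and_subset (x := x) (U := U) hxU
      let t : T := ⟨⟨B, hB⟩, Groth.L18.Frame.rs F (SetLike.coe_subset_coe.1 hBU) s⟩
      let i : Finset T × Finset Rel := ({t}, ∅)
      obtain ⟨p, hp⟩ := hf t
      let e : P t ⟶ PA i.1 := Sigma.ι (fun t' : {t' // t' ∈ i.1} => P t'.1) ⟨t, Finset.mem_singleton_self t⟩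
      refine ⟨S.map (colimit.ι 𝒟 i) (S.map (e ≫ cokernel.π (κ i)) ((P t).presheaf.germ B x hxB p)), ?_⟩
      rw [hfac, ← ConcreteCategory.comp_apply, ← S.map_comp]
      have he : (e ≫ cokernel.π (κ i)) ≫ u₀ i = f t := by simp [u₀, e, pA]
      rw [he, Groth.L21.Mod.stalkF_map_germ, hp]
      exact Groth.L20.ModStalk.germ_rs F _ hxB s
  exact IsColimit.ofPointIso (colimit.isColimit 𝒟)

end Groth.L19.FPExtend
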