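import Mathlib.Algebra.Module.FinitePresentation
import Mathlib.Algebra.Module.LocalizedModule.Submodule
import Mathlib.Algebra.Module.LocalizedModule.Away
import Mathlib.RingTheory.Localization.Finiteness
import Mathlib.RingTheory.Localization.Away.Basic
import Mathlib.RingTheory.TensorProduct.Finite

/-!
# Modules of finite presentation on a finite union of basic opens extend
-/

universe u

namespace Groth.L19.FPExtend

open Submodule

variable {R : Type u} [CommRing R] {M : Type u} [AddCommGroup M] [Module R M]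

/-- The module is finitely presented away from the zeros of `g`, phrased without localizations. -/
def FPAway (R : Type u) [CommRing R] (M : Type u) [AddCommGroup M] [Module R M] (g : R) : Prop :=
  ∃ s : Finset M, (∀ m : M, ∃ n : ℕ, g ^ n • m ∈ span R (s : Set M)) ∧
    ∀ (n : ℕ) (π : (Fin n → R) →ₗ[R] M), span R (s : Set M) ≤ LinearMap.range π →
      ∃ t : Finset (Fin n → R), (∀ y ∈ t, π y = 0) ∧
        ∀ y, π y = 0 → ∃ k : ℕ, g ^ k • y ∈ span R (t : Set (Fin n → R))

/-- Numerators of finitely many generators of a localization generate up to powers. -/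
theorem exists_finset_of_fg {g : R} (A : Type u) [CommRing A] [Algebra R A] [IsLocalization.Away g A]
    {N : Type u} [AddCommGroup N] [Module R N] [Module A N] [IsScalarTower R A N] (L : M →ₗ[R] N)
    [IsLocalizedModule.Away g L] {K : Submodule R M} (h : (K.localized' A (Submonoid.powers g) L).FG) :
    ∃ s : Finset M, (↑s : Set M) ⊆ K ∧ ∀ m ∈ K, ∃ n : ℕ, g ^ n • m ∈ span R (s : Set M) := by
  classical
  obtain ⟨s', hs'⟩ := h
  have hnum : ∀ z ∈ s', ∃ m ∈ K, ∃ a : Submonoid.powers g, a • z = L m := fun z hz => by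
    have : z ∈ K.localized' A (Submonoid.powers g) L := hs' ▸ subset_span hz
    obtain ⟨m, hm, a, rfl⟩ := this
    exact ⟨m, hm, a, IsLocalizedModule.mk'_cancel' L m a⟩
  choose num hK a ha using hnum
  refine ⟨s'.attach.image fun z => num z.1 z.2, ?_, fun m hm => ?_⟩
  · intro x hx
    simp only [Finset.coe_image, Set.mem_image] at hx
    obtain ⟨z, -, rfl⟩ := hx
    exact hK _ _
  · set W := span R (↑(s'.attach.image fun z => num z.1 z.2) : Set M)
    have hle : K.localized' A (Submonoid.powers g) L ≤ W.localized' A (Submonoid.powers g) L := by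
      rw [← hs', span_le]
      intro z hz
      refine ⟨num z hz, subset_span ?_, a z hz, ?_⟩
      · simp only [Finset.coe_image, Set.mem_image]
        exact ⟨⟨z, hz⟩, by simp, rfl⟩
      · rw [IsLocalizedModule.mk'_eq_iff]
        exact (ha z hz).symm
    have : L m ∈ W.localized' A (Submonoid.powers g) L :=
      hle ⟨m, hm, 1, IsLocalizedModule.mk'_one _ L m⟩
    obtain ⟨w, hw, ⟨_, k, rfl⟩, he⟩ := this
    rw [IsLocalizedModule.mk'_eq_iff] at he
    have he' : L w = L (g ^ k • m) := by rw [map_smul]; exact he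
    obtain ⟨⟨_, l, rfl⟩, hl⟩ := (IsLocalizedModule.eq_iff_exists (Submonoid.powers g) L).1 he'
    refine ⟨l + k, ?_⟩
    rw [pow_add, mul_smul]
    change g ^ l • w = g ^ l • g ^ k • m at hl
    rw [← hl]
    exact W.smul_mem _ hw

/-- Localization commutes with finite powers. -/
theorem isLocalizedModule_pi (S : Submonoid R) (A : Type u) [CommRing A] [Algebra R A] [IsLocalization S A]
    (n : ℕ) : IsLocalizedModule S
      (LinearMap.pi fun i => (Algebra.linearMap R A).comp (LinearMap.proj i) : (Fin n → R) →ₗ[R] (Fin n → A)) := by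
  refine (isLocalizedModule_iff _ _).mpr ⟨fun x => ?_, fun y => ?_, fun {a b} h => ?_⟩
  · rw [Module.End.isUnit_iff]
    obtain ⟨v, hv⟩ := (IsLocalization.map_units A x).exists_right_inv
    refine Function.bijective_iff_has_inverse.mpr ⟨fun z i => v * z i, fun z => ?_, fun z => ?_⟩
    · funext i
      show v * ((x : R) • z i) = z i
      rw [Algebra.smul_def, ← mul_assoc, mul_comm v, hv, one_mul]
    · funext i
      show (x : R) • (v * z i) = z i
      rw [Algebra.smul_def, ← mul_assoc, hv, one_mul]
  · obtain ⟨b, hb⟩ := IsLocalization.exist_integer_multiples_of_finite S y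
    choose x hx using hb
    exact ⟨⟨x, b⟩, funext fun i => (hx i).symm⟩
  · have : ∀ i, ∃ c : S, (c : R) * a i = c * b i := fun i =>
      (IsLocalization.eq_iff_exists S A).1 (congrFun h i)
    choose c hc using this
    refine ⟨∏ i, c i, funext fun i => ?_⟩
    have hd : c i ∣ ∏ i, c i := Finset.dvd_prod_of_mem _ (Finset.mem_univ i)
    obtain ⟨w, hw⟩ := hd
    show ((∏ i, c i : S) : R) * a i = ((∏ i, c i : S) : R) * b i
    rw [hw, mul_comm (c i) w, Submonoid.coe_mul, mul_assoc, hc, ← mul_assoc]

/-- Finite presentation of a localization away from `g`, in elementary terms. -/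
theorem fpAway_of_isLocalizedModule {g : R} (A : Type u) [CommRing A] [Algebra R A] [IsLocalization.Away g A]
    {N : Type u} [AddCommGroup N] [Module R N] [Module A N] [IsScalarTower R A N] (L : M →ₗ[R] N)
    [IsLocalizedModule.Away g L] [Module.FinitePresentation A N] : FPAway R M g := by
  classical
  obtain ⟨s, -, hs⟩ := exists_finset_of_fg (g := g) A L (K := (⊤ : Submodule R M)) (by
    rw [Submodule.localized'_top]; exact Module.Finite.fg_top)
  refine ⟨s, fun m => hs m trivial, fun n π hπ => ?_⟩
  let LQ : (Fin n → R) →ₗ[R] (Fin n → A) := LinearMap.pi fun i => (Algebra.linearMap R A).comp (LinearMap.proj i)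
  haveI : IsLocalizedModule.Away g LQ :=
    isLocalizedModule_pi (Submonoid.powers g) A n
  let π' : (Fin n → A) →ₗ[A] N := (IsLocalizedModule.map (Submonoid.powers g) LQ L π).extendScalarsOfIsLocalization (Submonoid.powers g) A
  have hπ' : ∀ y, π' (LQ y) = L (π y) := fun y => IsLocalizedModule.map_apply (Submonoid.powers g) LQ L π y
  have hsurj : Function.Surjective π' := fun z => by
    obtain ⟨⟨m, ⟨_, k, rfl⟩⟩, hz⟩ := IsLocalizedModule.surj (Submonoid.powers g) L z
    obtain ⟨l, hl⟩ := hs m trivial
    obtain ⟨y, hy⟩ := hπ hl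
    let u : Submonoid.powers g := ⟨g ^ (l + k), l + k, rfl⟩
    refine ⟨IsLocalizedModule.mk' LQ y u, ?_⟩
    have hu : algebraMap R A (g ^ (l + k)) • π' (IsLocalizedModule.mk' LQ y u) =
        algebraMap R A (g ^ (l + k)) • z := by
      rw [← map_smul, algebraMap_smul, algebraMap_smul]
      refine (congrArg π' (IsLocalizedModule.mk'_cancel' LQ y u)).trans ((hπ' y).trans ?_)
      rw [hy, map_smul, pow_add, mul_smul]
      exact congrArg (g ^ l • ·) hz.symm
    exact ((IsLocalization.map_units A u).smul_left_cancel).1 hu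
  have hker : (LinearMap.ker π).localized' A (Submonoid.powers g) LQ = LinearMap.ker π' := by
    rw [LinearMap.localized'_ker_eq_ker_localizedMap A (Submonoid.powers g) LQ L π]
  obtain ⟨t, ht, ht'⟩ := exists_finset_of_fg A LQ (K := LinearMap.ker π)
    (hker ▸ Module.FinitePresentation.fg_ker π' hsurj)
  exact ⟨t, fun y hy => ht hy, fun y hy => ht' y hy⟩

/-- A module of finite presentation away from the zeros of each of finitely many elements receives a map from a
module of finite presentation which is an isomorphism there. -/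
theorem exists_fp_approximation (T : Finset R) (hT : ∀ g ∈ T, FPAway R M g) :
    ∃ (P : Type u) (_ : AddCommGroup P) (_ : Module R P) (f : P →ₗ[R] M), Module.FinitePresentation R P ∧
      ∀ g ∈ T, (∀ p, f p = 0 → ∃ n : ℕ, g ^ n • p = 0) ∧ (∀ m, ∃ (n : ℕ) (p : P), f p = g ^ n • m) := by
  classical
  choose s hs hrel using hT
  let S : Finset M := T.attach.biUnion fun g => s g.1 g.2
  let π : (Fin S.card → R) →ₗ[R] M := Fintype.linearCombination R fun i => (S.equivFin.symm i : M)
  have hπ : ∀ g (hg : g ∈ T), span R (s g hg : Set M) ≤ LinearMap.range π := fun g hg => by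
    rw [span_le]
    intro m hm
    have : m ∈ S := Finset.mem_biUnion.2 ⟨⟨g, hg⟩, Finset.mem_attach _ _, hm⟩
    exact ⟨Pi.single (S.equivFin ⟨m, this⟩) 1, by simp [π]⟩
  choose t ht ht' using fun g hg => hrel g hg _ π (hπ g hg)
  let K : Submodule R (Fin S.card → R) := span R (↑(T.attach.biUnion fun g => t g.1 g.2) : Set _)
  have hK : K ≤ LinearMap.ker π := by
    rw [span_le]
    intro y hy
    obtain ⟨⟨g, hg⟩, -, hy'⟩ := Finset.mem_biUnion.1 hy
    exact ht g hg y hy'
  refine ⟨(Fin S.card → R) ⧸ K, inferInstance, inferInstance, K.liftQ π hK, ?_, fun g hg => ⟨fun p hp => ?_, fun m => ?_⟩⟩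
  · exact Module.finitePresentation_of_surjective K.mkQ K.mkQ_surjective
      ((Submodule.ker_mkQ K).symm ▸ Submodule.fg_span (Finset.finite_toSet _))
  · obtain ⟨y, rfl⟩ := K.mkQ_surjective p
    obtain ⟨k, hk⟩ := ht' g hg y hp
    refine ⟨k, ?_⟩
    rw [← map_smul, Submodule.mkQ_apply, Submodule.Quotient.mk_eq_zero]
    refine (span_mono ?_ : _ ≤ K) hk
    intro z hz
    exact Finset.mem_biUnion.2 ⟨⟨g, hg⟩, Finset.mem_attach _ _, hz⟩
  · obtain ⟨n, hn⟩ := hs g hg m
    obtain ⟨y, hy⟩ := hπ g hg hn
    exact ⟨n, K.mkQ y, hy⟩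

end Groth.L19.FPExtend
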