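import Groth.Agent.L17.Approx.Extend
import Groth.Agent.L17.Approx.RestrictFP
import Groth.Agent.L18.LocFreeTilde
import Groth.Agent.L22.Inter.FlatTwist
import Groth.Agent.L19.FPExtend.Algebra

/-!
# Modules of finite presentation extend from quasi-compact opens
-/

set_option autoImplicit false
set_option linter.style.haveILetI false
set_option backward.isDefEq.respectTransparency.types false
set_option backward.isDefEq.respectTransparency false

universe u

open CategoryTheory CategoryTheory.Limits AlgebraicGeometry TopologicalSpace Opposite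

noncomputable section

namespace Groth.L19.FPExtend

variable {X : Scheme.{u}}

/-- Sections of a module of finite presentation on an affine open. -/
theorem finitePresentation_sections_of_le (E : X.Modules) [Coh.IsQCoh E] {U : X.Opens}
    (hE : CohB1.IsFP (E.restrict U.ι)) {B : X.Opens} (hB : IsAffineOpen B) (h : B ≤ U) :
    Module.FinitePresentation Γ(X, B) Γ(E, B) := by
  have e : B = U.ι ''ᵁ (U.ι ⁻¹ᵁ B) := by
    rw [U.ι.image_preimage_eq_opensRange_inf, Scheme.Opens.opensRange_ι]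
    exact (inf_eq_right.2 h).symm
  suffices ∀ D : U.toScheme.Opens, B = U.ι ''ᵁ D → Module.FinitePresentation Γ(X, B) Γ(E, B) from this _ e
  intro D hD
  subst hD
  haveI := Groth.L20.ModStalk.finitePresentation_sections (E.restrict U.ι) hE
    ((U.ι.isAffineOpen_iff_of_isOpenImmersion).1 hB)
  have hm : (show Module Γ(X, U.ι ''ᵁ D) Γ(E, U.ι ''ᵁ D) from
      (inferInstance : Module Γ(U.toScheme, D) Γ(E.restrict U.ι, D))) =
      (inferInstance : Module Γ(X, U.ι ''ᵁ D) Γ(E, U.ι ''ᵁ D)) :=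
    Module.ext' _ _ fun c m => Groth.L17.Approx.smul_restrict_ι E U D c m
  exact Eq.mp (congrArg (fun m : Module Γ(X, U.ι ''ᵁ D) Γ(E, U.ι ''ᵁ D) =>
    @Module.FinitePresentation Γ(X, U.ι ''ᵁ D) Γ(E, U.ι ''ᵁ D) _ _ m) hm) this

theorem bijective_app_of_stalks {P Q : X.Modules} (φ : P ⟶ Q) (O : X.Opens)
    (h : ∀ x ∈ O, Function.Bijective ((Groth.L00.Stk.F X x).map φ)) : Function.Bijective (φ.app O) :=
  TopCat.Presheaf.app_bijective_of_stalkFunctor_map_bijective
    (F := ((Groth.L21.Mod.toAbSh X).obj P)) (G := ((Groth.L21.Mod.toAbSh X).obj Q))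
    ((Groth.L21.Mod.toAbSh X).map φ) O fun x hx => h x hx

/-- A morphism bijective on the members of a basis below `O` is bijective on the stalks over `O`. -/
theorem bijective_stalk_of_basis {P Q : X.Modules} (φ : P ⟶ Q) {O : X.Opens}
    {B : Set X.Opens} (hB : TopologicalSpace.Opens.IsBasis B)
    (h : ∀ D ∈ B, D ≤ O → Function.Bijective (φ.app D)) {x : X} (hx : x ∈ O) :
    Function.Bijective ((Groth.L00.Stk.F X x).map φ) := by
  refine ⟨fun a b hab => ?_, fun q => ?_⟩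
  · obtain ⟨U₁, hx₁, s, rfl⟩ := TopCat.Presheaf.exists_germ_eq P.presheaf a
    obtain ⟨U₂, hx₂, t, rfl⟩ := TopCat.Presheaf.exists_germ_eq P.presheaf b
    rw [DerSch.stalkFunctor_map_germ x φ U₁ hx₁, DerSch.stalkFunctor_map_germ x φ U₂ hx₂] at hab
    obtain ⟨W, hxW, i₁, i₂, hW⟩ := TopCat.Presheaf.germ_eq Q.presheaf x hx₁ hx₂ _ _ hab
    obtain ⟨D, hD, hxD, hDW⟩ := TopologicalSpace.Opens.isBasis_iff_nbhd.1 hB
      (show x ∈ W ⊓ O from ⟨hxW, hx⟩)
    have hd : Groth.L18.Frame.rs P (hDW.trans inf_le_left |>.trans i₁.le) s =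
        Groth.L18.Frame.rs P (hDW.trans inf_le_left |>.trans i₂.le) t := by
      refine (h D hD (hDW.trans inf_le_right)).1 ?_
      rw [Groth.L16.EpiFrames.app_rs, Groth.L16.EpiFrames.app_rs,
        ← Groth.L18.Frame.rs_rs Q i₁.le (hDW.trans inf_le_left) (φ.app U₁ s),
        ← Groth.L18.Frame.rs_rs Q i₂.le (hDW.trans inf_le_left) (φ.app U₂ t)]
      exact congrArg (Groth.L18.Frame.rs Q (hDW.trans inf_le_left)) hW
    have := congrArg (P.presheaf.germ D x hxD) hd
    rwa [Groth.L20.ModStalk.germ_rs, Groth.L20.ModStalk.germ_rs] at this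
  · obtain ⟨U₁, hx₁, s, rfl⟩ := TopCat.Presheaf.exists_germ_eq Q.presheaf q
    obtain ⟨D, hD, hxD, hDU⟩ := TopologicalSpace.Opens.isBasis_iff_nbhd.1 hB
      (show x ∈ U₁ ⊓ O from ⟨hx₁, hx⟩)
    obtain ⟨p, hp⟩ := (h D hD (hDU.trans inf_le_right)).2 (Groth.L18.Frame.rs Q (hDU.trans inf_le_left) s)
    refine ⟨P.presheaf.germ D x hxD p, ?_⟩
    rw [DerSch.stalkFunctor_map_germ x φ D hxD, hp]
    exact Groth.L20.ModStalk.germ_rs Q _ _ _

section Affine

variable {R : CommRingCat.{u}}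

theorem fpAway_of_isFP {M : ModuleCat.{u} R} {O : (Spec R).Opens} (hM : CohB1.IsFP ((tilde M).restrict O.ι))
    (g : R) (hg : PrimeSpectrum.basicOpen g ≤ O) : FPAway R M g := by
  haveI : Coh.IsQCoh (tilde M) := inferInstanceAs (tilde M).IsQuasicoherent
  haveI := finitePresentation_sections_of_le (tilde M) hM (IsAffineOpen.Spec_basicOpen g) hg
  exact @fpAway_of_isLocalizedModule R _ M _ _ g Γ(Spec R, PrimeSpectrum.basicOpen g) _ _ inferInstance
    Γ(tilde M, PrimeSpectrum.basicOpen g) _ _ _ inferInstance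
    (tilde.toOpen M (PrimeSpectrum.basicOpen g)).hom
    (inferInstanceAs (IsLocalizedModule.Away g (tilde.toOpen M (PrimeSpectrum.basicOpen g)).hom)) this

theorem bijective_tildeMap_app_basicOpen {P M : ModuleCat.{u} R} (f : P ⟶ M) {g h : R}
    (hgh : PrimeSpectrum.basicOpen h ≤ PrimeSpectrum.basicOpen g)
    (h₁ : ∀ p, f p = 0 → ∃ n : ℕ, g ^ n • p = 0) (h₂ : ∀ m, ∃ (n : ℕ) (p : P), f p = g ^ n • m) :
    Function.Bijective ((tilde.map f).app (PrimeSpectrum.basicOpen h)) := by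
  let D : (Spec R).Opens := PrimeSpectrum.basicOpen h
  let L : Γ(tilde P, D) →ₗ[R] Γ(tilde M, D) := ((modulesSpecToSheaf.map (tilde.map f)).1.app (op D)).hom
  let iP : P →ₗ[R] Γ(tilde P, D) := (tilde.toOpen P D).hom
  let iM : M →ₗ[R] Γ(tilde M, D) := (tilde.toOpen M D).hom
  haveI : IsLocalizedModule.Away h iP := inferInstanceAs (IsLocalizedModule.Away h (tilde.toOpen P _).hom)
  haveI : IsLocalizedModule.Away h iM := inferInstanceAs (IsLocalizedModule.Away h (tilde.toOpen M _).hom)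
  have hL : ∀ p, L (iP p) = iM (f p) := fun p => congr($(tilde.toOpen_map_app f D).hom p)
  have hreg : ∀ (N : (Spec R).Modules) (n : ℕ) (x y : Γ(N, D)), g ^ n • x = g ^ n • y → x = y :=
    fun N n x y hxy => (Scheme.Modules.isSMulRegular_of_le_basicOpen (M := N) (U := D) hgh).pow n hxy
  have hreg' : ∀ (N : (Spec R).Modules) (n : ℕ) (x y : Γ(N, D)), h ^ n • x = h ^ n • y → x = y :=
    fun N n x y hxy => (Scheme.Modules.isSMulRegular_of_le_basicOpen (M := N) (U := D) le_rfl).pow n hxy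
  refine ⟨fun a b hab => ?_, fun t => ?_⟩
  · rw [← sub_eq_zero]
    obtain ⟨⟨p, ⟨_, n, rfl⟩⟩, hp⟩ := IsLocalizedModule.surj (Submonoid.powers h) iP (a - b)
    change h ^ n • (a - b) = iP p at hp
    have h0 : iM (f p) = 0 := by
      rw [← hL, ← hp, map_smul, map_sub, show L a = L b from hab, sub_self, smul_zero]
    obtain ⟨⟨_, m, rfl⟩, hm⟩ := (IsLocalizedModule.eq_zero_iff (Submonoid.powers h) iM).1 h0
    change h ^ m • f p = 0 at hm
    obtain ⟨k, hk⟩ := h₁ (h ^ m • p) (by rw [map_smul, hm])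
    refine hreg' _ n _ _ ?_
    rw [hp, smul_zero]
    refine hreg' _ m _ _ (hreg _ k _ _ ?_)
    rw [← map_smul, ← map_smul, hk, map_zero, smul_zero, smul_zero]
  · obtain ⟨⟨m, ⟨_, n, rfl⟩⟩, hm⟩ := IsLocalizedModule.surj (Submonoid.powers h) iM t
    change h ^ n • t = iM m at hm
    obtain ⟨k, p, hp⟩ := h₂ m
    have hu : ∀ (c : R), D ≤ PrimeSpectrum.basicOpen c → ∀ (j : ℕ) (y : Γ(tilde P, D)), ∃ x, c ^ j • x = y :=
      fun c hc j y => by
        have := ((Scheme.Modules.isUnit_algebraMap_end_of_le_basicOpen (M := tilde P) (U := D) c hc).pow j)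
        rw [← map_pow, Module.End.isUnit_iff] at this
        exact this.2 y
    obtain ⟨x₁, hx₁⟩ := hu g hgh k (iP p)
    obtain ⟨x, hx⟩ := hu h le_rfl n x₁
    refine ⟨x, hreg' _ n _ _ (hreg _ k _ _ ?_)⟩
    show g ^ k • h ^ n • L x = g ^ k • h ^ n • t
    rw [← map_smul, ← map_smul, hx, hx₁, hL, hp, map_smul, hm]

theorem exists_fp_approximation_tilde (M : ModuleCat.{u} R) (O : (Spec R).Opens)
    (hO : IsCompact (O : Set (Spec R))) (hM : CohB1.IsFP ((tilde M).restrict O.ι)) :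
    ∃ (P : (Spec R).Modules) (_ : Coh.IsQCoh P) (θ : P ⟶ tilde M), CohB1.IsFP P ∧
      ∀ O' ≤ O, Function.Bijective (θ.app O') := by
  classical
  obtain ⟨T, hT⟩ : ∃ T : Finset R, ∀ x : Spec R, x ∈ O ↔ ∃ g ∈ T, x ∈ PrimeSpectrum.basicOpen g := by
    obtain ⟨T, hT⟩ := (PrimeSpectrum.isCompact_isOpen_iff (s := (O : Set (Spec R)))).1 ⟨hO, O.2⟩
    refine ⟨T, fun x => ?_⟩
    change x ∈ (O : Set (Spec R)) ↔ _
    rw [← hT]
    show ¬ ((T : Set R) ⊆ ↑(PrimeSpectrum.asIdeal (R := R) x)) ↔ _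
    rw [Set.not_subset]
    exact Iff.rfl
  have hle : ∀ g ∈ T, (PrimeSpectrum.basicOpen g : (Spec R).Opens) ≤ O := fun g hg x hx =>
    (hT x).2 ⟨g, hg, hx⟩
  obtain ⟨P, iP, mP, f, hP, hf⟩ := exists_fp_approximation (M := M) T fun g hg => fpAway_of_isFP hM g (hle g hg)
  let f' : ModuleCat.of R P ⟶ M := ModuleCat.ofHom f
  refine ⟨tilde (ModuleCat.of R P), inferInstanceAs ((tilde (ModuleCat.of R P)).IsQuasicoherent), tilde.map f',
    Groth.L18.LFP.isFP_tilde _, fun O' hO' => bijective_app_of_stalks (tilde.map f') O' fun x hx => ?_⟩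
  obtain ⟨g, hg, hxg⟩ := (hT x).1 (hO' hx)
  exact bijective_stalk_of_basis (tilde.map f') PrimeSpectrum.isBasis_basic_opens
    (by rintro _ ⟨r, rfl⟩ hr; exact bijective_tildeMap_app_basicOpen f' hr (hf g hg).1 (hf g hg).2) hxg

/-- A quasi-coherent module on an affine scheme which is of finite presentation on a quasi-compact
open receives a map from a module of finite presentation which is bijective there. -/
theorem exists_fp_approximation_spec (H : (Spec R).Modules) [Coh.IsQCoh H] (O : (Spec R).Opens)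
    (hO : IsCompact (O : Set (Spec R))) (hH : CohB1.IsFP (H.restrict O.ι)) :
    ∃ (P : (Spec R).Modules) (_ : Coh.IsQCoh P) (θ : P ⟶ H), CohB1.IsFP P ∧
      ∀ O' ≤ O, Function.Bijective (θ.app O') := by
  haveI : IsIso H.fromTildeΓ :=
    @Scheme.Modules.isIso_fromTildeΓ_of_isQuasicoherent _ H ‹Coh.IsQCoh H›
  let e := asIso H.fromTildeΓ
  obtain ⟨P, hPq, θ, hP, hθ⟩ := exists_fp_approximation_tilde _ O hO
    (Groth.L22.Inter.FlatTwist.isFP_of_iso ((Scheme.Modules.restrictFunctor O.ι).mapIso e.symm) hH)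
  refine ⟨P, hPq, θ ≫ e.hom, hP, fun O' hO' => ?_⟩
  haveI := Scheme.Modules.Hom.isIso_iff_isIso_app.1 (Iso.isIso_hom e) O'
  exact ((ConcreteCategory.isIso_iff_bijective _).1 this).comp (hθ O' hO')

end Affine

end Groth.L19.FPExtend
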