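import Groth.Agent.L19.FPExtend.Colim
import Groth.Agent.L19.LimMod.Lift

/-!
# Finite type modules as directed colimits of finitely presented modules with surjective transition maps
-/

set_option autoImplicit false
set_option linter.style.haveILetI false
set_option backward.isDefEq.respectTransparency false
set_option backward.isDefEq.respectTransparency.types false

universe u

open CategoryTheory CategoryTheory.Limits AlgebraicGeometry

noncomputable section

namespace Groth.L19.FPExtend

variable {X : Scheme.{u}}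

/-- A finite type qcoh module on a qcqs scheme is a directed colimit of FP modules along surjections. -/
theorem exists_isColimit_fp_epi [CompactSpace X] [QuasiSeparatedSpace X] (F : X.Modules) (hF : Coh.IsCoh F) :
    ∃ (J : Type u) (_ : PartialOrder J) (_ : IsDirected J (· ≤ ·)) (_ : Nonempty J) (D : J ⥤ X.Modules)
      (ι : D ⟶ (Functor.const J).obj F), Nonempty (IsColimit (Cocone.mk F ι)) ∧
      (∀ j, CohB1.IsFP (D.obj j)) ∧ ∀ (j j' : J) (h : j ⟶ j'), Epi (D.map h) := by
  classical
  haveI := hF.1
  obtain ⟨H, p, hH, hp⟩ := Groth.L19.LimMod.exists_fp_epi F hF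
  haveI := hp
  haveI := Groth.L05.Prufer.isQCoh_of_isFP hH
  haveI : Coh.IsQCoh (kernel p) := Groth.L29.DC.isQCoh_kernel' _ inferInstance inferInstance
  obtain ⟨I, _, _, P, c, hc, hP, hpt⟩ := exists_isColimit_fp (kernel p)
  let a : ∀ i, P.obj i ⟶ H := fun i => c.ι.app i ≫ eqToHom hpt ≫ kernel.ι p
  let κ : ∀ A : Finset I, (∐ fun i : {i // i ∈ A} => P.obj i.1) ⟶ H := fun A => Sigma.desc fun i => a i.1
  have hle : ∀ {A B : Finset I}, A ⊆ B → κ A ≫ cokernel.π (κ B) = 0 := fun {A B} h => by
    refine Sigma.hom_ext _ _ fun i => ?_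
    rw [comp_zero, ← Category.assoc, Sigma.ι_desc]
    have := Sigma.ι (fun i : {i // i ∈ B} => P.obj i.1) ⟨i.1, h i.2⟩ ≫= cokernel.condition (κ B)
    rwa [comp_zero, ← Category.assoc, Sigma.ι_desc] at this
  let D : Finset I ⥤ X.Modules :=
    { obj := fun A => cokernel (κ A)
      map := fun h => cokernel.desc _ _ (hle (leOfHom h))
      map_id := fun A => by refine coequalizer.hom_ext ?_; simp
      map_comp := fun h h' => by refine coequalizer.hom_ext ?_; simp }
  have hap : ∀ i, a i ≫ p = 0 := fun i => by simp [a, kernel.condition]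
  let ι : D ⟶ (Functor.const (Finset I)).obj F :=
    { app := fun A => cokernel.desc (κ A) p (Sigma.hom_ext _ _ fun i => by
        rw [comp_zero, ← Category.assoc, Sigma.ι_desc, hap])
      naturality := fun A B h => by refine coequalizer.hom_ext ?_; simp [D] }
  refine ⟨Finset I, inferInstance, inferInstance, ⟨∅⟩, D, ι, ⟨?_⟩, fun A => ?_, fun A B h => ?_⟩
  · have hπ : ∀ (s : Cocone D) (A : Finset I),
        cokernel.π (κ A) ≫ s.ι.app A = cokernel.π (κ ∅) ≫ s.ι.app ∅ := fun s A => by
      rw [← s.w (homOfLE (Finset.empty_subset A))]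
      simp [D]
    have hg : ∀ s : Cocone D, kernel.ι p ≫ cokernel.π (κ ∅) ≫ s.ι.app ∅ = 0 := fun s => by
      rw [← cancel_epi (eqToHom hpt)]
      refine hc.hom_ext fun i => ?_
      rw [comp_zero, comp_zero, ← hπ s {i}]
      have := Sigma.ι (fun j : {j // j ∈ ({i} : Finset I)} => P.obj j.1) ⟨i, Finset.mem_singleton_self i⟩ ≫=
        (cokernel.condition (κ {i}) =≫ s.ι.app {i})
      simp only [zero_comp, comp_zero, Category.assoc] at this
      rw [← Category.assoc, Sigma.ι_desc] at this
      simpa [a] using this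
    exact
      { desc := fun s => Abelian.epiDesc p _ (hg s)
        fac := fun s A => by
          refine coequalizer.hom_ext ?_
          show cokernel.π (κ A) ≫ ι.app A ≫ _ = cokernel.π (κ A) ≫ s.ι.app A
          rw [hπ s A, ← Category.assoc, cokernel.π_desc, Abelian.comp_epiDesc]
        uniq := fun s m hm => by
          rw [← cancel_epi p, Abelian.comp_epiDesc, ← hm ∅]
          show p ≫ m = cokernel.π (κ ∅) ≫ ι.app ∅ ≫ m
          rw [← Category.assoc, cokernel.π_desc] }
  · haveI : Finite {i // i ∈ A} := inferInstance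
    exact isFP_cokernel (isFP_sigma (fun i : {i // i ∈ A} => P.obj i.1) fun i => hP i.1) hH (κ A)
  · haveI : Epi (cokernel.π (κ A) ≫ D.map h) := by
      show Epi (cokernel.π (κ A) ≫ cokernel.desc _ _ _)
      rw [cokernel.π_desc]
      infer_instance
    exact epi_of_epi (cokernel.π (κ A)) (D.map h)

end Groth.L19.FPExtend
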